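import Groth.Agent.Lib.CBExt28.Vanish
import Groth.Agent.Lib.ExtHull28.Classes
import Groth.Agent.Lib.DualSm27.Serre
import Groth.Agent.Lib.SerrePn27.Ext
import Groth.Agent.Lib.SurfRR28.Curve
import Groth.Agent.Lib.RedSub.Basic
import Groth.Agent.Lib.ProjFormula.Iso
import Groth.Agent.Lib.Euler.Rank
import Groth.Agent.Lib.ModelK.Rank
import Groth.Agent.Lib.NegTwist.H0

/-!
# Cayley–Bacharach for reduced finite sets of points
-/

set_option autoImplicit false
set_option maxHeartbeats 2400000
set_option linter.style.haveILetI false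
set_option linter.unusedSectionVars false
set_option backward.isDefEq.respectTransparency false

universe u

open CategoryTheory CategoryTheory.Limits AlgebraicGeometry TopologicalSpace
open CategoryTheory.Abelian (Ext)
open GrothLib.QCoh (stalkLin)
open GrothLib.Cohom (hhMap)

noncomputable section

namespace GrothLib.CBExt28

variable {X : Scheme.{u}}

local instance mono_idealModι (I : X.IdealSheafData) : Mono (ClSub.idealModι I) :=
  inferInstanceAs (Mono (kernel.ι (ClSub.toSubscheme I)))

/-- An invertible module on a one-point scheme is trivial. -/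
theorem nonempty_iso_structure_of_point {Y : Scheme.{u}} [Subsingleton Y] [Nonempty Y] {L : Y.Modules}
    (hL : PicF.IsInvertible L) : Nonempty (L ≅ Coh.structureModule Y) := by
  obtain ⟨y⟩ := (inferInstance : Nonempty Y)
  obtain ⟨U, hy, ⟨e⟩⟩ := hL y
  have hU : U = ⊤ := Opens.ext (Set.eq_univ_of_forall fun x => Subsingleton.elim y x ▸ hy)
  obtain ⟨V, s, hyV, hs⟩ := InvExt.exists_gen_nhd hL y
  have hV : V = ⊤ := Opens.ext (Set.eq_univ_of_forall fun x => Subsingleton.elim y x ▸ hyV)
  subst hV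
  let σ := FinCov.homOfSection s
  haveI : IsIso σ := (OX.isIso_iff σ).2 fun x => (ConcreteCategory.isIso_iff_bijective _).2 (by
    have hb := (Ref1.bijective_iff_gen σ x).2 ?_
    · rw [show (RefHull.stalkMapₗ σ x : _ → _) = stalkLin σ x from
        funext fun v => by rw [Ref1.stalkMapₗ_eq_stalkLin]] at hb
      exact hb
    · have h1 := Ref1.gen_of_isGen hs (show x ∈ (⊤ : Y.Opens) from trivial)
      refine cast (congrArg (Ref1.Gen L x) ?_) h1
      exact congrArg (L.presheaf.germ ⊤ x trivial)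
        ((FinCov.homOfSection_one s ⊤).trans (InvExt.mres_self L s)).symm)
  exact ⟨(asIso σ).symm⟩

variable (k : Type u) [Field k] [X.Over (Spec (CommRingCat.of k))]

include k in
theorem hhMap_eq_zero_iff {M N : X.Modules} (f : M ⟶ N) :
    hhMap k f 0 = 0 ↔ ∀ ρ : Coh.structureModule X ⟶ M, ρ ≫ f = 0 := by
  constructor
  · intro h ρ
    have hz : ∀ s, f.app ⊤ s = 0 := fun s => by
      obtain ⟨x, rfl⟩ := (ProjCoh.H0top M).surjective s
      rw [← NegTwist.H0top_hhMap k, h, LinearMap.zero_apply, map_zero]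
    refine Scheme.Modules.hom_ext _ _ fun U => AddCommGrpCat.ext fun s => ?_
    refine QCoh.section_eq_zero_of_germ _ _ fun x hx => ?_
    refine (QCoh.stalkLin_germ (ρ ≫ f) hx s).symm.trans ?_
    obtain ⟨d, hd⟩ := (Ref1.gen_unitStalk x).2 ((Coh.structureModule X).presheaf.germ U x hx s)
    dsimp only at hd
    rw [← hd, map_smul, ← Ref1.stalkMapₗ_eq_stalkLin, Ref1.stalkMapₗ_unit_germ]
    refine (congrArg (d • ·) ?_).trans (smul_zero d)
    refine (congrArg (N.presheaf.germ ⊤ x trivial) (hz _)).trans (map_zero _)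
  · intro h
    refine LinearMap.ext fun x => (ProjCoh.H0top N).injective ?_
    rw [NegTwist.H0top_hhMap k, LinearMap.zero_apply, map_zero]
    have h1 := congrArg (fun g : Coh.structureModule X ⟶ N => g.app ⊤ (FinCov.one X ⊤)) (h (FinCov.homOfSection (ProjCoh.H0top M x)))
    refine Eq.trans ?_ h1
    show _ = f.app ⊤ ((FinCov.homOfSection _).app ⊤ (FinCov.one X ⊤))
    rw [FinCov.homOfSection_one]
    exact congrArg (f.app ⊤) (InvExt.mres_self M _).symm

variable [IsProper (X ↘ Spec (CommRingCat.of k))]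

/-- The twisted skyscraper of a rational point has one section. -/
theorem finrank_H0_tw_point [IsAlgClosed k] {A : X.Modules} (hA : PicF.IsInvertible A) {z : X}
    (hz : IsClosed ({z} : Set X)) :
    Module.finrank k (Coh.HH X ((Tw A).obj (ClSub.quotMod (Scheme.IdealSheafData.vanishingIdeal ⟨{z}, hz⟩))) 0) = 1 := by
  haveI := Euler.isNoetherian_of_proper (X := X) k
  let P := Scheme.IdealSheafData.vanishingIdeal (⟨{z}, hz⟩ : Closeds X)
  have hr : Set.range P.subschemeι.base = {z} := by
    rw [Scheme.IdealSheafData.range_subschemeι, Scheme.IdealSheafData.coe_support_vanishingIdeal]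
    rfl
  haveI : Subsingleton P.subscheme := ⟨fun a b => P.subschemeι.isEmbedding.injective (by
    have ha : P.subschemeι.base a ∈ ({z} : Set X) := hr ▸ Set.mem_range_self a
    have hb : P.subschemeι.base b ∈ ({z} : Set X) := hr ▸ Set.mem_range_self b
    exact ha.trans hb.symm)⟩
  haveI hne : Nonempty P.subscheme := by
    obtain ⟨a, -⟩ : z ∈ Set.range P.subschemeι.base := hr ▸ rfl
    exact ⟨a⟩
  haveI : IsReduced P.subscheme := RedSub.isReduced_subscheme_vanishingIdeal _
  haveI : IrreducibleSpace P.subscheme :=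
    { isPreirreducible_univ := fun U V _ _ ⟨a, _, ha⟩ ⟨b, _, hb⟩ =>
        ⟨a, trivial, ha, Subsingleton.elim b a ▸ hb⟩
      toNonempty := hne }
  have hint : IsIntegral P.subscheme := isIntegral_of_irreducibleSpace_of_isReduced _
  obtain ⟨φ⟩ := nonempty_iso_structure_of_point (Ample.isInvertible_pullback P.subschemeι hA)
  haveI : (Coh.structureModule P.subscheme).IsQuasicoherent := Cohom.isQuasicoherent_structureModule _
  haveI := ProjFormula.isIso_projHom P.subschemeι (Euler.isFinLocFree_of_isInvertible hA) (Coh.structureModule P.subscheme)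
  let e : (Tw A).obj (ClSub.quotMod P) ≅ ClSub.quotMod P :=
    asIso (ProjFormula.projHom P.subschemeι A (Coh.structureModule P.subscheme)) ≪≫
      (Scheme.Modules.pushforward P.subschemeι).mapIso
        (((DCoh.tensorBi (X := P.subscheme)).mapIso φ).app (Coh.structureModule P.subscheme) ≪≫
          OX.tensorUnitLeftIso _)
  rw [(SerrePn27.hhMapEquiv (k := k) e 0).finrank_eq]
  exact SurfRR28.finrank_H0_quotMod k P hint

omit [IsProper (X ↘ Spec (CommRingCat.of k))] in
/-- The sequence of the ideals of a finite set and of the set without one point. -/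
theorem exists_ses_point [DecidableEq X] {W : Finset X} (hWc : IsClosed (W : Set X)) (hW : ∀ z ∈ W, IsClosed ({z} : Set X))
    {z : X} (hz : z ∈ W) (hWz : IsClosed ((W.erase z : Finset X) : Set X))
    (φ : ClSub.idealMod (Scheme.IdealSheafData.vanishingIdeal ⟨(W : Set X), hWc⟩) ⟶
      ClSub.idealMod (Scheme.IdealSheafData.vanishingIdeal ⟨((W.erase z : Finset X) : Set X), hWz⟩))
    (hφ : φ ≫ ClSub.idealModι (Scheme.IdealSheafData.vanishingIdeal ⟨((W.erase z : Finset X) : Set X), hWz⟩) =
      ClSub.idealModι (Scheme.IdealSheafData.vanishingIdeal ⟨(W : Set X), hWc⟩)) :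
    ∃ (θ : ClSub.idealMod (Scheme.IdealSheafData.vanishingIdeal ⟨((W.erase z : Finset X) : Set X), hWz⟩) ⟶
        ClSub.quotMod (Scheme.IdealSheafData.vanishingIdeal ⟨{z}, hW z hz⟩)) (w : φ ≫ θ = 0),
      (ShortComplex.mk φ θ w).ShortExact := by
  let R : Closeds X := ⟨((W.erase z : Finset X) : Set X), hWz⟩
  let Pc : Closeds X := ⟨{z}, hW z hz⟩
  let J := Scheme.IdealSheafData.vanishingIdeal R
  let P := Scheme.IdealSheafData.vanishingIdeal Pc
  let I := Scheme.IdealSheafData.vanishingIdeal (⟨(W : Set X), hWc⟩ : Closeds X)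
  have hI : I = J ⊓ P := by
    have hsplit : (⟨(W : Set X), hWc⟩ : Closeds X) = R ⊔ Pc := by
      refine SetLike.coe_injective ?_
      rw [Closeds.coe_sup]
      show (W : Set X) = ((W.erase z : Finset X) : Set X) ∪ {z}
      rw [Finset.coe_erase, Set.diff_union_self, Set.union_eq_self_of_subset_right (Set.singleton_subset_iff.2 hz)]
    show Scheme.IdealSheafData.vanishingIdeal _ = _
    rw [hsplit]
    exact Scheme.IdealSheafData.gc.u_inf
  let θ : ClSub.idealMod J ⟶ ClSub.quotMod P := ClSub.idealModι J ≫ ClSub.toSubscheme P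
  have hle : I ≤ P := hI ▸ inf_le_right
  have hw : φ ≫ θ = 0 := by
    show φ ≫ ClSub.idealModι J ≫ ClSub.toSubscheme P = 0
    rw [← Category.assoc, hφ]
    exact HodgeIndex.comp_toSubscheme_zero hle
  refine ⟨θ, hw, (OX.shortExact_iff _).2 fun x => ?_⟩
  haveI : Mono φ := by
    haveI : Mono (φ ≫ ClSub.idealModι J) := by rw [hφ]; infer_instance
    exact mono_of_mono φ (ClSub.idealModι J)
  have hexP : Function.Exact (stalkLin (ClSub.idealModι P) x) (stalkLin (ClSub.toSubscheme P) x) :=
    (ShortComplex.ShortExact.moduleCat_exact_iff_function_exact _).1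
      ((OX.exact_iff _).1 (ArSurf29.shortExact_ideal P).exact x)
  have hθ : ∀ v, stalkLin θ x v = stalkLin (ClSub.toSubscheme P) x (HomSh.unitStalk x (OmegaBC.sval J x v)) :=
    fun v => by
      rw [show stalkLin θ x v = _ from HodgeIndex.stalkLin_comp_apply _ _ x v, Goodman.stalkLin_idealModι]
  refine { exact := (ShortComplex.moduleCat_exact_iff _).2 fun v hv => ?_, mono_f := ?_, epi_g := ?_ }
  · change stalkLin θ x v = 0 at hv
    rw [hθ] at hv
    obtain ⟨p, hp⟩ := (hexP _).1 hv
    rw [Goodman.stalkLin_idealModι] at hp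
    have hmem : OmegaBC.sval J x v ∈ Goodman.st I x := by
      rw [hI, IdealMV12.st_inf]
      exact ⟨LinearMap.mem_range_self _ v, ⟨p, (HomSh.unitStalk x).injective hp⟩⟩
    obtain ⟨i, hi⟩ := hmem
    refine ⟨i, ?_⟩
    show stalkLin φ x i = v
    refine OmegaBC.sval_injective J x ((HomSh.unitStalk x).injective ?_)
    rw [← Goodman.stalkLin_idealModι, ← HodgeIndex.stalkLin_comp_apply, hφ, Goodman.stalkLin_idealModι, hi]
  · exact inferInstanceAs (Mono ((OX.stalk x).map φ))
  · refine (ModuleCat.epi_iff_surjective _).2 fun q => ?_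
    haveI := Euler.epi_toSubscheme P
    obtain ⟨o, ho⟩ := QCoh.stalkLin_surjective (ClSub.toSubscheme P) x q
    obtain ⟨c, hc⟩ := (HomSh.unitStalk x).surjective o
    subst hc
    show ∃ v, stalkLin θ x v = q
    by_cases hx : x = z
    · have hst : Goodman.st J x = ⊤ := Goodman.st_of_notMem J (by
        rw [Scheme.IdealSheafData.coe_support_vanishingIdeal, hx]
        exact Finset.notMem_erase z W)
      obtain ⟨v, hv⟩ : c ∈ Goodman.st J x := hst ▸ trivial
      exact ⟨v, by rw [hθ, hv, ho]⟩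
    · have hst : Goodman.st P x = ⊤ := Goodman.st_of_notMem P (by
        rw [Scheme.IdealSheafData.coe_support_vanishingIdeal]
        exact hx)
      obtain ⟨p, hp⟩ : c ∈ Goodman.st P x := hst ▸ trivial
      refine ⟨0, ?_⟩
      rw [map_zero, ← ho, ← hp, ← Goodman.stalkLin_idealModι]
      exact (hexP.apply_apply_eq_zero p).symm

variable {k} {r : ℕ} {ιP : X ⟶ CohB1.ProjSpace r k} [IsClosedImmersion ιP]
  (hιP : ιP ≫ CohB1.ProjSpace.toSpec r k = X ↘ Spec (CommRingCat.of k))
  [SmoothOfRelativeDimension 2 (X ↘ Spec (CommRingCat.of k))] [HasExt.{u} X.Modules]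
  {ω : X.Modules} (hω : ExtPow.IsExtPow 2 (Omega.sheaf (X ↘ Spec (CommRingCat.of k))) ω)

include hιP hω in
theorem finrank_ext_two [Nonempty X] {G : X.Modules} (hG : Coh.IsCoh G) :
    Module.finrank k (Ext G ω 2) = Module.finrank k (Coh.HH X G 0) ∧ FiniteDimensional k (Ext G ω 2) := by
  obtain ⟨e⟩ := DualSm27.nonempty_ext_dual k r 2 X ιP hιP ω hω G hG 2 le_rfl
  haveI := Euler.finiteDimensional_HH k hG 0
  exact ⟨by rw [e.finrank_eq, Subspace.dual_finrank_eq], e.symm.finiteDimensional⟩

include hιP hω in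
/-- Surjectivity of a restriction of first `Ext` groups, in terms of sections. -/
theorem surjective_precomp_iff_hhMap [Nonempty X] (S : ShortComplex X.Modules) (hS : S.ShortExact)
    (h₁ : Coh.IsCoh S.X₁) (h₂ : Coh.IsCoh S.X₂) (h₃ : Coh.IsCoh S.X₃)
    (hd : Module.finrank k (Coh.HH X S.X₃ 0) = 1) :
    Function.Surjective ((Ext.mk₀ S.f).precomp ω (zero_add 1)) ↔ hhMap k S.g 0 ≠ 0 := by
  obtain ⟨e₁, i₁⟩ := finrank_ext_two hιP hω h₁
  obtain ⟨e₂, i₂⟩ := finrank_ext_two hιP hω h₂
  obtain ⟨e₃, i₃⟩ := finrank_ext_two hιP hω h₃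
  haveI := Euler.finiteDimensional_HH k h₁ 0
  haveI := Euler.finiteDimensional_HH k h₂ 0
  haveI := Euler.finiteDimensional_HH k h₃ 0
  let g₂ : Ext S.X₃ ω 2 →ₗ[k] Ext S.X₂ ω 2 := (Ext.mk₀ S.g).precompOfLinear k ω (zero_add 2)
  let f₂ : Ext S.X₂ ω 2 →ₗ[k] Ext S.X₁ ω 2 := (Ext.mk₀ S.f).precompOfLinear k ω (zero_add 2)
  have hf₂ : Function.Surjective f₂ := fun y => by
    have h3 : Subsingleton (Ext S.X₃ ω 3) := by
      haveI := SerrePn27.isLocallyNoetherian_of_closed ιP
      obtain ⟨t, ht⟩ := DualSm27.exists_dualizing k r 2 X ιP hιP ω hω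
      exact (SerrePn27.dualityCM ιP hιP (DualSm27.dim_eq k r 2 X ιP hιP) (DualSm27.cm_closedPoint k r 2 X ιP hιP)
        (Euler.isCoh_of_isFinLocFree (DualSm27.isFinLocFree_top k r 2 X ιP hιP ω hω)) t ht S.X₃ h₃).2 3 (by omega)
    exact Ext.contravariant_sequence_exact₁ hS ω y (n₁ := 3) rfl (@Subsingleton.elim _ h3 _ _)
  have hex : LinearMap.ker f₂ = LinearMap.range g₂ := by
    ext y
    constructor
    · intro hy
      exact Ext.contravariant_sequence_exact₂ hS ω y hy
    · rintro ⟨x, rfl⟩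
      show (Ext.mk₀ S.f).comp ((Ext.mk₀ S.g).comp x (zero_add 2)) (zero_add 2) = 0
      rw [Ext.mk₀_comp_mk₀_assoc, S.zero, Ext.mk₀_zero, Ext.zero_comp]
  have h1 : Function.Surjective ((Ext.mk₀ S.f).precomp ω (zero_add 1)) ↔ Function.Injective g₂ := by
    constructor
    · intro hs
      refine (injective_iff_map_eq_zero _).2 fun x hx => ?_
      obtain ⟨y, hy⟩ := Ext.contravariant_sequence_exact₃ hS ω x hx (n₀ := 1) rfl
      obtain ⟨y', rfl⟩ := hs y
      rw [← hy]
      show hS.extClass.comp ((Ext.mk₀ S.f).comp y' (zero_add 1)) _ = 0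
      rw [← Ext.comp_assoc_of_second_deg_zero, hS.extClass_comp, Ext.zero_comp]
    · intro hg y
      refine Ext.contravariant_sequence_exact₁ hS ω y (n₁ := 2) rfl (hg ?_)
      show (Ext.mk₀ S.g).comp (hS.extClass.comp y rfl) (zero_add 2) = g₂ 0
      rw [map_zero, ← Ext.comp_assoc (Ext.mk₀ S.g) hS.extClass y (zero_add 1) rfl (by omega), hS.comp_extClass,
        Ext.zero_comp]
  rw [h1]
  haveI : Mono S.f := hS.mono_f
  have hrn := LinearMap.finrank_range_add_finrank_ker (hhMap k S.g 0)
  have hk : Module.finrank k (LinearMap.ker (hhMap k S.g 0)) = Module.finrank k (Coh.HH X S.X₁ 0) := by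
    rw [(Cohom.exact₂ (A := k) hS 0).linearMap_ker_eq,
      LinearMap.finrank_range_of_inj (NegTwist.injective_hhMap_zero k S.f)]
  have hrn₂ := LinearMap.finrank_range_add_finrank_ker f₂
  rw [LinearMap.range_eq_top.2 hf₂, finrank_top, hex, e₁, e₂] at hrn₂
  constructor
  · intro hg h0
    rw [LinearMap.finrank_range_of_inj hg, e₃, hd] at hrn₂
    rw [h0, LinearMap.range_zero, finrank_bot, ← h0, hk] at hrn
    omega
  · intro h0
    have hle : Module.finrank k (LinearMap.range (hhMap k S.g 0)) ≤ 1 := hd ▸ Submodule.finrank_le _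
    have hpos : 1 ≤ Module.finrank k (LinearMap.range (hhMap k S.g 0)) :=
      Nat.one_le_iff_ne_zero.2 fun h => h0 (LinearMap.range_eq_bot.1 (Submodule.finrank_eq_zero.1 h))
    have hker := LinearMap.finrank_range_add_finrank_ker g₂
    rw [e₃, hd] at hker
    refine LinearMap.ker_eq_bot.1 (Submodule.finrank_eq_zero.1 ?_)
    omega

end GrothLib.CBExt28
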