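import Groth.Agent.Lib.CBExt28.Main
import Groth.Agent.Lib.RegPow10.Main
import Groth.Agent.Lib.CMReg.ProjSpace
import Groth.Agent.Lib.RankTwo12.Converse
import Groth.Agent.Lib.FMTrans15.Main

/-!
# Cayley–Bacharach: transfer to the twisted ideal, and rank two bundles
-/

set_option autoImplicit false
set_option maxHeartbeats 2400000
set_option linter.style.haveILetI false
set_option linter.unusedSectionVars false
set_option backward.isDefEq.respectTransparency false

universe u

open CategoryTheory CategoryTheory.Limits AlgebraicGeometry TopologicalSpace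
open CategoryTheory.Abelian (Ext)
open GrothLib.QCoh (stalkLin)
open GrothLib.Cohom (hhMap)

noncomputable section

namespace GrothLib.CBExt28

variable {X : Scheme.{u}}

/-- Twisting by an invertible module respects surjectivity of restrictions of `Ext¹`. -/
theorem surjective_precomp_tw_iff [HasExt.{u} X.Modules] {A K W : X.Modules} (hA : PicF.IsInvertible A)
    (e : (Tw A).obj K ≅ W) {I J : X.Modules} (φ : I ⟶ J) :
    Function.Surjective ((Ext.mk₀ φ).precomp K (zero_add 1)) ↔
      Function.Surjective ((Ext.mk₀ ((Tw A).map φ)).precomp W (zero_add 1)) := by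
  haveI := isEquivalence_Tw hA
  haveI : EnoughInjectives X.Modules := SheafCoh.enoughInjectives_sheafOfModules X.ringCatSheaf
  let Φ : ∀ M : X.Modules, Ext M K 1 → Ext ((Tw A).obj M) W 1 := fun M x =>
    (x.mapExactFunctor (Tw A)).comp (Ext.mk₀ e.hom) (add_zero 1)
  have hb : ∀ M, Function.Bijective (Φ M) := fun M => by
    have h1 := Functor.mapExt_bijective_of_preservesInjectiveObjects (Tw A) M K 1
    have h2 : Function.Bijective (fun y : Ext ((Tw A).obj M) ((Tw A).obj K) 1 =>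
        y.comp (Ext.mk₀ e.hom) (add_zero 1)) := by
      refine Function.bijective_iff_has_inverse.2 ⟨fun y => y.comp (Ext.mk₀ e.inv) (add_zero 1), fun y => ?_, fun y => ?_⟩ <;>
        simp only [Ext.comp_assoc_of_second_deg_zero, Ext.mk₀_comp_mk₀, Iso.hom_inv_id, Iso.inv_hom_id, Ext.comp_mk₀_id]
    exact h2.comp h1
  have hsq : ∀ y : Ext J K 1, Φ I ((Ext.mk₀ φ).comp y (zero_add 1)) =
      (Ext.mk₀ ((Tw A).map φ)).comp (Φ J y) (zero_add 1) := fun y => by
    show (((Ext.mk₀ φ).comp y (zero_add 1)).mapExactFunctor (Tw A)).comp _ _ = _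
    rw [Ext.mapExactFunctor_comp, Ext.mapExactFunctor_mk₀, Ext.comp_assoc_of_third_deg_zero]
  constructor
  · intro h w
    obtain ⟨x, rfl⟩ := (hb I).2 w
    obtain ⟨y, rfl⟩ := h x
    exact ⟨Φ J y, (hsq y).symm⟩
  · intro h x
    obtain ⟨w, hw⟩ := h (Φ I x)
    obtain ⟨y, rfl⟩ := (hb J).2 w
    exact ⟨y, (hb I).1 ((hsq y).trans hw)⟩

/-- An invertible module has an inverse. -/
theorem exists_inv {L : X.Modules} (hL : PicF.IsInvertible L) :
    ∃ K : X.Modules, PicF.IsInvertible K ∧ Nonempty ((Tw L).obj K ≅ Coh.structureModule X) ∧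
      Nonempty ((Tw K).obj L ≅ Coh.structureModule X) :=
  FMTrans15.exists_tensor_inverse hL

variable (k : Type u) [Field k] [X.Over (Spec (CommRingCat.of k))]
  [IsProper (X ↘ Spec (CommRingCat.of k))] [IsIntegral X]

include k in
/-- Extensions of `L ⊗ I` by the structure sheaf with rank two middle term are extensions of `I` by the inverse. -/
theorem exists_rankTwo_iff {L K I : X.Modules} (hL : PicF.IsInvertible L) (hK : PicF.IsInvertible K)
    (eLK : (Tw L).obj K ≅ Coh.structureModule X) (eKL : (Tw K).obj L ≅ Coh.structureModule X)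
    (hI : Coh.IsCoh I) (hI1 : Euler.grank I = 1) :
    (∃ (E : X.Modules) (sE : Coh.structureModule X ⟶ E) (p : E ⟶ CohB1.tensorMod L I) (w : sE ≫ p = 0),
        FlatMod.IsFinLocFreeOfRank 2 E ∧ (ShortComplex.mk sE p w).ShortExact) ↔
      ∃ (F : X.Modules) (a : K ⟶ F) (b : F ⟶ I) (w : a ≫ b = 0),
        (ShortComplex.mk a b w).ShortExact ∧ FlatMod.IsFinLocFree F := by
  constructor
  · rintro ⟨E, sE, p, w, hE, hS⟩
    haveI := isEquivalence_Tw hK
    have hT := tw_shortExact hK hS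
    let c : (Tw K).obj (CohB1.tensorMod L I) ≅ I :=
      (OX.tensorAssoc K L I).symm ≪≫ ((DCoh.tensorBi (X := X)).mapIso eKL).app I ≪≫ OX.tensorUnitLeftIso I
    let a₀ : (Tw K).obj (Coh.structureModule X) ≅ K :=
      GrTilde.tensorModComm (X := X) K (Coh.structureModule X) ≪≫ OX.tensorUnitLeftIso K
    have w' : (a₀.inv ≫ (Tw K).map sE) ≫ (Tw K).map p ≫ c.hom = 0 := by
      rw [Category.assoc, ← (Tw K).map_comp_assoc, w, Functor.map_zero, zero_comp, comp_zero]
    let ej : (ShortComplex.mk sE p w).map (Tw K) ≅ ShortComplex.mk _ _ w' :=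
      ShortComplex.isoMk a₀ (Iso.refl _) c (by simp) (by simp)
    refine ⟨(Tw K).obj E, a₀.inv ≫ (Tw K).map sE, (Tw K).map p ≫ c.hom, w', ?_, ?_⟩
    · exact ShortComplex.shortExact_of_iso ej hT
    · exact OX.isFinLocFree_tensor (Euler.isFinLocFree_of_isInvertible hK) (OX.isFinLocFree_of_rank' hE)
  · rintro ⟨F, a, b, w, hS, hF⟩
    haveI := Euler.isNoetherian_of_proper (X := X) k
    haveI := isEquivalence_Tw hL
    obtain ⟨r, hr⟩ := ModelK.exists_rank_connected hF
    have hr2 : r = 2 := by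
      have h := Euler.grank_additive hS (Euler.isCoh_of_isFinLocFree hF)
      rw [Euler.grank_of_locFree hr, hI1, Euler.grank_of_locFree (Euler.isFinLocFreeOfRank_one' hK)] at h
      omega
    subst hr2
    have hT := tw_shortExact hL hS
    have w' : (eLK.inv ≫ (Tw L).map a) ≫ (Tw L).map b = 0 := by
      rw [Category.assoc, ← Functor.map_comp, w, Functor.map_zero, comp_zero]
    let ej : (ShortComplex.mk a b w).map (Tw L) ≅ ShortComplex.mk _ _ w' :=
      ShortComplex.isoMk eLK (Iso.refl _) (Iso.refl _) (by simp) (by simp)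
    refine ⟨(Tw L).obj F, eLK.inv ≫ (Tw L).map a, (Tw L).map b, w', ?_, ?_⟩
    · exact OX.isFinLocFreeOfRank_of_iso (GrTilde.tensorModComm (X := X) F L) (RankTwo12.isFinLocFreeOfRank_tensor hr hL)
    · exact ShortComplex.shortExact_of_iso ej hT

omit [IsIntegral X] in
include k in
theorem isCoh_idealMod (I : X.IdealSheafData) : Coh.IsCoh (ClSub.idealMod I) :=
  haveI := Euler.isNoetherian_of_proper (X := X) k
  RegPow.isCoh_idealMod I

variable {k} {r : ℕ} {ιP : X ⟶ CohB1.ProjSpace r k} [IsClosedImmersion ιP]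
  (hιP : ιP ≫ CohB1.ProjSpace.toSpec r k = X ↘ Spec (CommRingCat.of k))
  [SmoothOfRelativeDimension 2 (X ↘ Spec (CommRingCat.of k))] [HasExt.{u} X.Modules] [IsAlgClosed k]
  {ω : X.Modules} (hω : ExtPow.IsExtPow 2 (Omega.sheaf (X ↘ Spec (CommRingCat.of k))) ω)

include hιP hω in
/-- The Cayley–Bacharach property at one point. -/
theorem surjective_precomp_iff_exists_section [DecidableEq X] {A K : X.Modules} (hA : PicF.IsInvertible A)
    (e : (Tw A).obj K ≅ ω) {Z : Finset X} (hZc : IsClosed (Z : Set X)) (hZ : ∀ z ∈ Z, IsClosed ({z} : Set X))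
    {z : X} (hz : z ∈ Z) (hWz : IsClosed ((Z.erase z : Finset X) : Set X))
    (φ : ClSub.idealMod (Scheme.IdealSheafData.vanishingIdeal ⟨(Z : Set X), hZc⟩) ⟶
      ClSub.idealMod (Scheme.IdealSheafData.vanishingIdeal ⟨((Z.erase z : Finset X) : Set X), hWz⟩))
    (hφ : φ ≫ ClSub.idealModι (Scheme.IdealSheafData.vanishingIdeal ⟨((Z.erase z : Finset X) : Set X), hWz⟩) =
      ClSub.idealModι (Scheme.IdealSheafData.vanishingIdeal ⟨(Z : Set X), hZc⟩)) :
    Function.Surjective ((Ext.mk₀ φ).precomp K (zero_add 1)) ↔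
      ∃ σ : Coh.structureModule X ⟶ A, (∀ z' ∈ Z, z' ≠ z → z' ∈ (PicF2.zeroScheme A σ).support) ∧
        z ∉ (PicF2.zeroScheme A σ).support := by
  haveI := Euler.isNoetherian_of_proper (X := X) k
  haveI := isEquivalence_Tw hA
  obtain ⟨θ, w, hS⟩ := exists_ses_point hZc hZ hz hWz φ hφ
  let S := ShortComplex.mk φ θ w
  have hcoh : ∀ {M : X.Modules}, Coh.IsCoh M → Coh.IsCoh ((Tw A).obj M) := fun {M} hM =>
    QCoh.isCoh_of_iso (GrTilde.tensorModComm (X := X) M A) (CMReg.isCoh_tensorMod hM hA)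
  have hT : (S.map (Tw A)).ShortExact := tw_shortExact hA hS
  rw [surjective_precomp_tw_iff hA e φ]
  refine (surjective_precomp_iff_hhMap hιP hω (S.map (Tw A)) hT (hcoh (isCoh_idealMod k _))
    (hcoh (isCoh_idealMod k _)) (hcoh (Snapper.isCoh_quotMod k _))
    (finrank_H0_tw_point k hA (hZ z hz))).trans ?_
  rw [ne_eq, hhMap_eq_zero_iff k, not_forall]
  have hWm : ∀ z' ∈ Z.erase z, IsClosed ({z'} : Set X) := fun z' h => hZ z' (Finset.mem_of_mem_erase h)
  set ι' := ClSub.idealModι (Scheme.IdealSheafData.vanishingIdeal (⟨((Z.erase z : Finset X) : Set X), hWz⟩ : Closeds X))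
  haveI : Mono ι' := mono_idealModι _
  haveI : Mono (S.map (Tw A)).f := hT.mono_f
  haveI : Mono ((Tw A).map ι') := inferInstance
  constructor
  · rintro ⟨ρ, hρ⟩
    let σ : Coh.structureModule X ⟶ A := ρ ≫ (Tw A).map ι' ≫ (SecTwist.unitorR A).hom
    have h1 := (exists_factor_iff hA σ hWz hWm).1 ⟨ρ, rfl⟩
    refine ⟨σ, fun z' hz' hne => h1 z' (Finset.mem_erase.2 ⟨hne, hz'⟩), fun hzs => hρ ?_⟩
    obtain ⟨ρ', hρ'⟩ := (exists_factor_iff hA σ hZc hZ).2 fun z' hz' => by
      by_cases hne : z' = z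
      · exact hne ▸ hzs
      · exact h1 z' (Finset.mem_erase.2 ⟨hne, hz'⟩)
    have h2 : ρ' ≫ (Tw A).map φ = ρ := by
      rw [← cancel_mono ((Tw A).map ι'), ← cancel_mono (SecTwist.unitorR A).hom]
      simp only [Category.assoc]
      rw [← (Tw A).map_comp_assoc, hφ]
      exact hρ'
    rw [← h2]
    exact (Category.assoc _ _ _).trans ((congrArg (ρ' ≫ ·) (S.map (Tw A)).zero).trans comp_zero)
  · rintro ⟨σ, h1, h2⟩
    obtain ⟨ρ, hρ⟩ := (exists_factor_iff hA σ hWz hWm).2 fun z' hz' =>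
      h1 z' (Finset.mem_of_mem_erase hz') (Finset.ne_of_mem_erase hz')
    refine ⟨ρ, fun h0 => h2 ?_⟩
    let ρ' := hT.exact.lift ρ h0
    have hl : ρ' ≫ (Tw A).map φ = ρ := hT.exact.lift_f ρ h0
    refine (exists_factor_iff hA σ hZc hZ).1 ⟨ρ', ?_⟩ z hz
    rw [← hρ, ← hl, Category.assoc, ← (Tw A).map_comp_assoc, hφ]

end GrothLib.CBExt28
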