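import Groth.Agent.Lib.ExtHull28.Classes
import Groth.Agent.Lib.Jets.ZeroIdeal
import Groth.Agent.Lib.NegTwist.Connected
import Groth.Agent.Lib.Euler.InvHom
import Groth.Agent.Lib.Goodman.Degree
import Groth.Agent.Lib.ArSurf29.FactorBlowUpScheme
import Groth.Agent.Lib.ArSurf29.DivSum
import Groth.Agent.Lib.IdealMV12.Basic
import Groth.Agent.Lib.FundIso27.Iso

/-!
# Sections of a line bundle vanishing on finitely many points
-/

set_option autoImplicit false
set_option maxHeartbeats 1600000
set_option linter.style.haveILetI false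
set_option linter.unusedSectionVars false
set_option backward.isDefEq.respectTransparency false

universe u

open CategoryTheory CategoryTheory.Limits AlgebraicGeometry TopologicalSpace
open GrothLib.QCoh (stalkLin)

noncomputable section

namespace GrothLib.CBExt28

variable {X : Scheme.{u}}

/-- The twisting functor. -/
abbrev Tw (A : X.Modules) : X.Modules ⥤ X.Modules := (DCoh.tensorBi (X := X)).obj A

theorem isEquivalence_Tw {A : X.Modules} (hA : PicF.IsInvertible A) : (Tw A).IsEquivalence := by
  haveI := FundIso27.isEquivalence_tensor hA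
  exact Functor.isEquivalence_of_iso ((OX.tensorBraiding (X := X)).app A)

theorem tw_shortExact {A : X.Modules} (hA : PicF.IsInvertible A) {S : ShortComplex X.Modules} (hS : S.ShortExact) :
    haveI := isEquivalence_Tw hA
    (S.map (Tw A)).ShortExact := by
  haveI := isEquivalence_Tw hA
  exact hS.map_of_exact (Tw A)

/-- The stalk of the vanishing ideal of finitely many closed points. -/
theorem st_vanishingIdeal_finite {W : Finset X} (hWc : IsClosed (W : Set X)) (hW : ∀ z ∈ W, IsClosed ({z} : Set X))
    {x : X} (hx : x ∈ W) :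
    Goodman.st (Scheme.IdealSheafData.vanishingIdeal ⟨(W : Set X), hWc⟩) x =
      IsLocalRing.maximalIdeal (X.presheaf.stalk x) := by
  classical
  have hc' : IsClosed ((W.erase x : Finset X) : Set X) := by
    rw [← Set.biUnion_of_singleton ((W.erase x : Finset X) : Set X)]
    exact (W.erase x).finite_toSet.isClosed_biUnion fun z hz => hW z (Finset.mem_of_mem_erase hz)
  let P : Closeds X := ⟨{x}, hW x hx⟩
  let R : Closeds X := ⟨((W.erase x : Finset X) : Set X), hc'⟩
  have hsplit : (⟨(W : Set X), hWc⟩ : Closeds X) = P ⊔ R := by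
    refine SetLike.coe_injective ?_
    rw [Closeds.coe_sup]
    show (W : Set X) = {x} ∪ ((W.erase x : Finset X) : Set X)
    rw [Finset.coe_erase, Set.union_diff_cancel (Set.singleton_subset_iff.2 hx)]
  rw [hsplit, show Scheme.IdealSheafData.vanishingIdeal (P ⊔ R) =
    Scheme.IdealSheafData.vanishingIdeal P ⊓ Scheme.IdealSheafData.vanishingIdeal R from
    Scheme.IdealSheafData.gc.u_inf, IdealMV12.st_inf, Goodman.st_of_notMem (Scheme.IdealSheafData.vanishingIdeal R)
      (by rw [Scheme.IdealSheafData.coe_support_vanishingIdeal]; exact fun h => Finset.notMem_erase x W h),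
    inf_top_eq]
  refine Eq.trans ?_ (Goodman.st_curve_self x)
  congr 2
  exact Closeds.ext (hW x hx).closure_eq.symm

/-- The zero scheme of a section lives where the section does not generate. -/
theorem mem_support_zeroScheme_iff [IsIntegral X] [IsNoetherian X] {A : X.Modules} (hA : PicF.IsInvertible A)
    (σ : Coh.structureModule X ⟶ A) (z : X) :
    z ∈ (PicF2.zeroScheme A σ).support ↔ ¬ Function.Surjective (stalkLin σ z) := by
  by_cases hσ : σ = 0
  · subst hσ
    refine iff_of_true ?_ fun hs => ?_
    · obtain ⟨V, e, hzV, he⟩ := InvExt.exists_gen_nhd hA z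
      obtain ⟨U, hU, hzU, hUV⟩ := exists_isAffineOpen_mem_and_subset hzV
      refine (Scheme.IdealSheafData.mem_support_iff_of_mem (U := ⟨U, hU⟩) hzU).2 ?_
      rw [Jets.zeroScheme_ideal_gen hA _ ⟨U, hU⟩ (he.restrict hUV) (c := 0) (by
        rw [zero_smul]; rfl)]
      rw [Scheme.mem_zeroLocus_iff]
      intro f hf
      rw [SetLike.mem_coe, Ideal.mem_span_singleton] at hf
      obtain ⟨g, rfl⟩ := hf
      rw [zero_mul, Scheme.basicOpen_zero]
      exact fun h => h
    · obtain ⟨t, ht⟩ := Ref1.exists_gen_of_isInvertible hA z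
      obtain ⟨v, hv⟩ := hs t
      refine ht.ne_zero ?_
      rw [← hv, Kodaira.stalkLin_zero_apply]
  · haveI := Euler.mono_of_ne_zero Euler.isInvertible_structure hA hσ
    rw [← SetLike.mem_coe, NegTwist.support_zeroScheme hA σ, Set.mem_compl_iff, SetLike.mem_coe]
    refine not_congr ⟨fun h => (Snapper.stalk_bijective_of_mem_genLocus σ h).2, fun h => ?_⟩
    have hQ : Coh.IsCoh (cokernel σ) := QCoh.isCoh_cokernel σ
      (Euler.isCoh_of_isInvertible Euler.isInvertible_structure) (Euler.isCoh_of_isInvertible hA)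
    refine Snapper.le_genLocus σ ⟨_, (QCoh.isClosed_support_of_isCoh hQ).isOpen_compl⟩ (fun y hy => ?_)
      (QCoh.notMem_support_cokernel_of_surjective σ h)
    refine ⟨QCoh.stalkLin_injective σ y, fun w => ?_⟩
    haveI := QCoh.stalk_subsingleton_of_notMem (M := cokernel σ) hy
    have hex := (OX.exact_iff (ShortComplex.mk σ (cokernel.π σ) (cokernel.condition σ))).1
      (ShortComplex.exact_cokernel σ) y
    rw [ShortComplex.moduleCat_exact_iff] at hex
    exact hex w (Subsingleton.elim (α := (cokernel σ).presheaf.stalk y) _ _)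

theorem tmulStalk_left_injective {F G : X.Modules} {x : X} {t : F.presheaf.stalk x} (ht : Ref1.Gen F x t) :
    Function.Injective (Ref1.tmulStalk F G x t) := by
  let R := X.presheaf.stalk x
  let φ : R ≃ₗ[R] F.presheaf.stalk x := LinearEquiv.ofBijective (LinearMap.toSpanSingleton R _ t) ht
  have hφ : φ.symm t = 1 := φ.symm_apply_eq.2 (by
    show t = (1 : R) • t
    rw [one_smul])
  let E := TensorProduct.congr φ.symm (LinearEquiv.refl R (G.presheaf.stalk x))
  have key : ∀ w, TensorProduct.lid R (G.presheaf.stalk x)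
      (E (Ref1.tensorStalk F G x (Ref1.tmulStalk F G x t w))) = w := fun w => by
    rw [Ref1.tensorStalk_tmulStalk]
    show TensorProduct.lid R _ (TensorProduct.congr φ.symm (LinearEquiv.refl R _) (t ⊗ₜ[R] w)) = w
    rw [TensorProduct.congr_tmul, hφ, TensorProduct.lid_tmul, one_smul]
    rfl
  intro w w' h
  rw [← key w, ← key w', h]

/-- A section factors through the twisted ideal of finitely many points iff it vanishes there. -/
theorem exists_factor_iff [IsIntegral X] [IsNoetherian X] {A : X.Modules} (hA : PicF.IsInvertible A)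
    (σ : Coh.structureModule X ⟶ A) {W : Finset X} (hWc : IsClosed (W : Set X))
    (hW : ∀ z ∈ W, IsClosed ({z} : Set X)) :
    (∃ ρ, ρ ≫ (Tw A).map (ClSub.idealModι (Scheme.IdealSheafData.vanishingIdeal ⟨(W : Set X), hWc⟩)) ≫
        (SecTwist.unitorR A).hom = σ) ↔
      ∀ z ∈ W, z ∈ (PicF2.zeroScheme A σ).support := by
  haveI := isEquivalence_Tw hA
  let I := Scheme.IdealSheafData.vanishingIdeal (⟨(W : Set X), hWc⟩ : Closeds X)
  have hS := tw_shortExact hA (ArSurf29.shortExact_ideal I)
  haveI : Mono ((Tw A).map (ClSub.idealModι I)) := hS.mono_f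
  let σ' : Coh.structureModule X ⟶ (Tw A).obj (Coh.structureModule X) := σ ≫ (SecTwist.unitorR A).inv
  have key : ∀ x : X, stalkLin (σ' ≫ (Tw A).map (ClSub.toSubscheme I)) x (HomSh.unitStalk x 1) = 0 ↔
      (x ∈ W → ¬ Function.Surjective (stalkLin σ x)) := by
    intro x
    obtain ⟨t, ht⟩ := Ref1.exists_gen_of_isInvertible hA x
    have hg : Ref1.Gen (CohB1.tensorMod A (Coh.structureModule X)) x
        (Ref1.tmulStalk A (Coh.structureModule X) x t (HomSh.unitStalk x 1)) :=
      Ref1.Gen.tmulStalk A (Coh.structureModule X) ht (Ref1.gen_unitStalk x)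
    obtain ⟨c, hc⟩ := hg.2 (stalkLin σ' x (HomSh.unitStalk x 1))
    dsimp only at hc
    have hsurj : Function.Surjective (stalkLin σ x) ↔ IsUnit c := by
      have h1 : Function.Surjective (stalkLin σ x) ↔ Function.Surjective (stalkLin σ' x) := by
        have hb : Function.Bijective (stalkLin (SecTwist.unitorR A).inv x) :=
          (ConcreteCategory.isIso_iff_bijective ((OX.stalk x).map (SecTwist.unitorR A).inv)).1 inferInstance
        have e : (stalkLin σ' x : _ → _) = stalkLin (SecTwist.unitorR A).inv x ∘ stalkLin σ x :=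
          funext fun v => HodgeIndex.stalkLin_comp_apply σ _ x v
        rw [e, Function.Surjective.of_comp_iff' hb]
      rw [h1]
      constructor
      · intro hs
        obtain ⟨v, hv⟩ := hs (Ref1.tmulStalk A (Coh.structureModule X) x t (HomSh.unitStalk x 1))
        obtain ⟨d, rfl⟩ := (Ref1.gen_unitStalk x).2 v
        dsimp only at hv
        rw [map_smul, ← hc, smul_smul] at hv
        refine IsUnit.of_mul_eq_one d ?_
        rw [mul_comm]
        refine hg.1 ?_
        dsimp only
        rw [one_smul]
        exact hv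
      · rintro ⟨u, rfl⟩ v
        obtain ⟨d, rfl⟩ := hg.2 v
        refine ⟨(d * ↑u⁻¹) • HomSh.unitStalk x 1, ?_⟩
        rw [map_smul, ← hc, smul_smul, mul_assoc, Units.inv_mul, mul_one]
    have hval : stalkLin (σ' ≫ (Tw A).map (ClSub.toSubscheme I)) x (HomSh.unitStalk x 1) =
        Ref1.tmulStalk A (ClSub.quotMod I) x t (stalkLin (ClSub.toSubscheme I) x (HomSh.unitStalk x c)) := by
      have e1 : stalkLin ((Tw A).map (ClSub.toSubscheme I)) x
          (Ref1.tmulStalk A (Coh.structureModule X) x t (HomSh.unitStalk x 1)) =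
          Ref1.tmulStalk A (ClSub.quotMod I) x t (stalkLin (ClSub.toSubscheme I) x (HomSh.unitStalk x 1)) :=
        Goodman.stalkLin_tensor_tmul A (ClSub.toSubscheme I) x t _
      have e2 : HomSh.unitStalk x c = c • HomSh.unitStalk x 1 := by rw [← map_smul, smul_eq_mul, mul_one]
      refine (HodgeIndex.stalkLin_comp_apply _ _ x _).trans ?_
      rw [← hc, e2]
      refine ((stalkLin ((Tw A).map (ClSub.toSubscheme I)) x).map_smul c _).trans ?_
      refine (congrArg (c • ·) e1).trans ?_
      refine ((Ref1.tmulStalk A (ClSub.quotMod I) x t).map_smul c _).symm.trans ?_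
      exact congrArg _ ((stalkLin (ClSub.toSubscheme I) x).map_smul c _).symm
    rw [hsurj, hval]
    have hz : Ref1.tmulStalk A (ClSub.quotMod I) x t (stalkLin (ClSub.toSubscheme I) x (HomSh.unitStalk x c)) = 0 ↔
        stalkLin (ClSub.toSubscheme I) x (HomSh.unitStalk x c) = 0 :=
      ⟨fun h => tmulStalk_left_injective ht (h.trans (map_zero _).symm), fun h => by rw [h, map_zero]⟩
    refine hz.trans ?_
    have hex : Function.Exact (stalkLin (ClSub.idealModι I) x) (stalkLin (ClSub.toSubscheme I) x) :=
      (ShortComplex.ShortExact.moduleCat_exact_iff_function_exact _).1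
        ((OX.exact_iff _).1 (ArSurf29.shortExact_ideal I).exact x)
    refine Iff.trans (b := c ∈ Goodman.st I x) ?_ ?_
    · constructor
      · intro h
        obtain ⟨v, hv⟩ := (hex _).1 h
        exact ⟨v, (HomSh.unitStalk x).injective ((Goodman.stalkLin_idealModι I x v).symm.trans hv)⟩
      · rintro ⟨v, rfl⟩
        rw [← Goodman.stalkLin_idealModι]
        exact hex.apply_apply_eq_zero v
    · by_cases hx : x ∈ W
      · rw [st_vanishingIdeal_finite hWc hW hx, IsLocalRing.mem_maximalIdeal, mem_nonunits_iff]
        simp [hx]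
      · rw [Goodman.st_of_notMem I (by
          rw [Scheme.IdealSheafData.coe_support_vanishingIdeal]; exact hx)]
        simp [hx]
  constructor
  · rintro ⟨ρ, rfl⟩ z hz
    rw [mem_support_zeroScheme_iff hA]
    refine (key z).1 ?_ hz
    have h0 : σ' ≫ (Tw A).map (ClSub.toSubscheme I) = 0 := by
      simp only [σ', Category.assoc, Iso.hom_inv_id_assoc]
      rw [← Functor.map_comp, show ClSub.idealModι I ≫ ClSub.toSubscheme I = 0 from kernel.condition _,
        Functor.map_zero, comp_zero]
    rw [h0, Kodaira.stalkLin_zero_apply]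
  · intro h
    have h0 : σ' ≫ (Tw A).map (ClSub.toSubscheme I) = 0 := by
      refine Scheme.Modules.hom_ext _ _ fun U => AddCommGrpCat.ext fun s => ?_
      refine QCoh.section_eq_zero_of_germ _ _ fun x hx => ?_
      refine (QCoh.stalkLin_germ (σ' ≫ (Tw A).map (ClSub.toSubscheme I)) hx s).symm.trans ?_
      obtain ⟨d, hd⟩ := (Ref1.gen_unitStalk x).2 ((Coh.structureModule X).presheaf.germ U x hx s)
      dsimp only at hd
      rw [← hd, map_smul, (key x).2 fun hxW => (mem_support_zeroScheme_iff hA σ x).1 (h x hxW), smul_zero]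
    haveI : Mono ((ShortComplex.mk (ClSub.idealModι I) (ClSub.toSubscheme I) (kernel.condition _)).map (Tw A)).f := hS.mono_f
    refine ⟨hS.exact.lift σ' h0, ?_⟩
    rw [← Category.assoc, show hS.exact.lift σ' h0 ≫ (Tw A).map (ClSub.idealModι I) = σ' from
      hS.exact.lift_f σ' h0]
    simp [σ']

end GrothLib.CBExt28
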